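import Groth.Agent.RefHullLib.Restrict
import Groth.Agent.TorsorHartogs.Hartogs
import Groth.Agent.Lef23.Disjoint
import Groth.Agent.EGA43.FibDepth.LociLocal
import Groth.Agent.CAlgH3.Serre
import Groth.Prelude.Def_RelCanon

/-!
# Sheaves of homomorphisms into a module that extends across a closed set

If the sections of `M` over affine opens extend uniquely across `X ∖ U`, then so do those of `homSh F M`, for every
module `F`.  For `M = O_X` and depth at least two outside `U` this applies to all duals and double duals.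
-/

set_option autoImplicit false
set_option backward.isDefEq.respectTransparency.types false

universe u

open CategoryTheory AlgebraicGeometry TopologicalSpace Opposite

namespace Groth.Agent.QG15

variable {X : Scheme.{u}}

/-- The sections of `M` over affine opens are those over their trace on `U`. -/
def Extends (M : X.Modules) (U : X.Opens) : Prop :=
  ∀ V : X.Opens, IsAffineOpen V →
    Function.Bijective (M.presheaf.map (homOfLE (inf_le_left : V ⊓ U ≤ V)).op).hom

/-- A family of germs that is locally given by sections is given by a section. -/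
theorem exists_section_of_germs (M : X.Modules) (W : X.Opens) (v : ∀ y : W, M.presheaf.stalk y.1)
    (h : ∀ y : W, ∃ (W' : X.Opens) (hle : W' ≤ W) (_ : y.1 ∈ W') (n : Γ(M, W')),
      ∀ (z : X) (hz : z ∈ W'), M.presheaf.germ W' z hz n = v ⟨z, hle hz⟩) :
    ∃ n : Γ(M, W), ∀ y : W, M.presheaf.germ W y.1 y.2 n = v y := by
  choose W' hle hmem n hn using h
  let Fsh : TopCat.Sheaf Ab X := ⟨M.presheaf, M.isSheaf⟩
  obtain ⟨t, ht, -⟩ := Fsh.existsUnique_gluing' W' W (fun y => homOfLE (hle y))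
    (fun y hy => TopologicalSpace.Opens.mem_iSup.2 ⟨⟨y, hy⟩, hmem ⟨y, hy⟩⟩) n (fun y y' => by
      refine TopCat.Presheaf.section_ext Fsh _ _ _ fun z hz => ?_
      exact ((TopCat.Presheaf.germ_res_apply M.presheaf _ _ hz _).trans (hn y z hz.1)).trans
        ((TopCat.Presheaf.germ_res_apply M.presheaf _ _ hz _).trans (hn y' z hz.2)).symm)
  refine ⟨t, fun y => ?_⟩
  refine Eq.trans ?_ (hn y y.1 (hmem y))
  have := congrArg (M.presheaf.germ (W' y) y.1 (hmem y)) (ht y)
  exact (TopCat.Presheaf.germ_res_apply M.presheaf (homOfLE (hle y)) y.1 (hmem y) t).symm.trans this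

variable {F M : X.Modules} {U : X.Opens}

/-- A section vanishing at the points of `U` vanishes. -/
theorem Extends.eq_of_germ (h : Extends M U) {V : X.Opens} (a b : Γ(M, V))
    (hab : ∀ (y : X) (hy : y ∈ V), y ∈ U → M.presheaf.germ V y hy a = M.presheaf.germ V y hy b) : a = b := by
  refine TopCat.Presheaf.section_ext ⟨M.presheaf, M.isSheaf⟩ V a b fun x hx => ?_
  obtain ⟨_, ⟨W, hW, rfl⟩, hxW, hWV⟩ :=
    X.isBasis_affineOpens.exists_subset_of_mem_open (SetLike.mem_coe.2 hx) V.isOpen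
  have he : M.presheaf.map (homOfLE hWV).op a = M.presheaf.map (homOfLE hWV).op b := by
    refine (h W hW).1 (TopCat.Presheaf.section_ext ⟨M.presheaf, M.isSheaf⟩ (W ⊓ U) _ _ fun y hy => ?_)
    exact (((TopCat.Presheaf.germ_res_apply M.presheaf _ _ hy _).trans
      (TopCat.Presheaf.germ_res_apply M.presheaf _ _ hy.1 _)).trans (hab y (hWV hy.1) hy.2)).trans
      ((TopCat.Presheaf.germ_res_apply M.presheaf _ _ hy _).trans
        (TopCat.Presheaf.germ_res_apply M.presheaf _ _ hy.1 _)).symm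
  have := congrArg (M.presheaf.germ W x hxW) he
  exact (TopCat.Presheaf.germ_res_apply M.presheaf _ _ hxW _).symm.trans
    (this.trans (TopCat.Presheaf.germ_res_apply M.presheaf _ _ hxW _))

variable {V : X.Opens} (g : Γ(RefHull.homSh F M, V ⊓ U))

/-- `w` is the value at `v` of the extension of `g` at a point. -/
def Val (x : V) (v : F.presheaf.stalk x.1) (w : M.presheaf.stalk x.1) : Prop :=
  ∃ (W : X.Opens) (hWV : W ≤ V) (hx : x.1 ∈ W) (m : Γ(F, W)) (n : Γ(M, W)),
    F.presheaf.germ W x.1 hx m = v ∧ M.presheaf.germ W x.1 hx n = w ∧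
      ∀ (y : X) (hy : y ∈ W) (hyU : y ∈ U),
        g.1 ⟨y, hWV hy, hyU⟩ (F.presheaf.germ W y hy m) = M.presheaf.germ W y hy n

theorem exists_ext_value (h : Extends M U) {W : X.Opens} (hW : IsAffineOpen W) (hWV : W ≤ V) (m : Γ(F, W)) :
    ∃ n : Γ(M, W), ∀ (y : X) (hy : y ∈ W) (hyU : y ∈ U),
      g.1 ⟨y, hWV hy, hyU⟩ (F.presheaf.germ W y hy m) = M.presheaf.germ W y hy n := by
  obtain ⟨n', hn'⟩ := exists_section_of_germs M (W ⊓ U)
    (fun y => g.1 ⟨y.1, hWV y.2.1, y.2.2⟩ (F.presheaf.germ W y.1 y.2.1 m)) (fun y => by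
      let i : W ⊓ U ⟶ V ⊓ U := homOfLE (inf_le_inf_right U hWV)
      obtain ⟨W', hyW', j, n, hn⟩ := RefHull.isLocSect_of_mem g (W ⊓ U) i
        (F.presheaf.map (homOfLE (inf_le_left : W ⊓ U ≤ W)).op m) y
      refine ⟨W', j.le, hyW', n, fun z hz => ?_⟩
      refine (hn ⟨z, hz⟩).symm.trans ?_
      exact congrArg _ (TopCat.Presheaf.germ_res_apply F.presheaf _ _ _ _))
  obtain ⟨n, rfl⟩ := (h W hW).2 n'
  refine ⟨n, fun y hy hyU => ?_⟩
  exact (hn' ⟨y, hy, hyU⟩).symm.trans (TopCat.Presheaf.germ_res_apply M.presheaf _ _ _ _)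

theorem exists_val (h : Extends M U) (x : V) (v : F.presheaf.stalk x.1) : ∃ w, Val g x v w := by
  obtain ⟨W₀, hx₀, m₀, rfl⟩ := F.presheaf.exists_germ_eq v
  obtain ⟨_, ⟨W, hW, rfl⟩, hxW, hWle⟩ :=
    X.isBasis_affineOpens.exists_subset_of_mem_open (SetLike.mem_coe.2 (show x.1 ∈ W₀ ⊓ V from ⟨hx₀, x.2⟩))
      (W₀ ⊓ V).isOpen
  have h1 : W ≤ W₀ := fun y hy => (hWle hy).1
  have h2 : W ≤ V := fun y hy => (hWle hy).2
  obtain ⟨n, hn⟩ := exists_ext_value g h hW h2 (F.presheaf.map (homOfLE h1).op m₀)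
  exact ⟨_, W, h2, hxW, _, n, TopCat.Presheaf.germ_res_apply F.presheaf _ _ hxW _, rfl, hn⟩

theorem val_unique (h : Extends M U) {x : V} {v : F.presheaf.stalk x.1} {w w' : M.presheaf.stalk x.1}
    (hw : Val g x v w) (hw' : Val g x v w') : w = w' := by
  obtain ⟨W, hWV, hx, m, n, hm, rfl, hn⟩ := hw
  obtain ⟨W', hWV', hx', m', n', hm', rfl, hn'⟩ := hw'
  obtain ⟨O, hxO, i, i', e⟩ := F.presheaf.germ_eq x.1 hx hx' m m' (hm.trans hm'.symm)
  have he : M.presheaf.map i.op n = M.presheaf.map i'.op n' := by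
    refine h.eq_of_germ _ _ fun y hy hyU => ?_
    refine (TopCat.Presheaf.germ_res_apply M.presheaf i y hy n).trans ?_
    refine Eq.trans ?_ (TopCat.Presheaf.germ_res_apply M.presheaf i' y hy n').symm
    rw [← hn y (i.le hy) hyU, ← hn' y (i'.le hy) hyU, ← TopCat.Presheaf.germ_res_apply F.presheaf i y hy m, e,
      TopCat.Presheaf.germ_res_apply F.presheaf i' y hy m']
  rw [← TopCat.Presheaf.germ_res_apply M.presheaf i x.1 hxO n, he,
    TopCat.Presheaf.germ_res_apply M.presheaf i' x.1 hxO n']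

theorem val_add {x : V} {v v' : F.presheaf.stalk x.1} {w w' : M.presheaf.stalk x.1}
    (hw : Val g x v w) (hw' : Val g x v' w') : Val g x (v + v') (w + w') := by
  obtain ⟨W, hWV, hx, m, n, rfl, rfl, hn⟩ := hw
  obtain ⟨W', hWV', hx', m', n', rfl, rfl, hn'⟩ := hw'
  refine ⟨W ⊓ W', inf_le_left.trans hWV, ⟨hx, hx'⟩,
    F.presheaf.map (homOfLE inf_le_left).op m + F.presheaf.map (homOfLE inf_le_right).op m',
    M.presheaf.map (homOfLE inf_le_left).op n + M.presheaf.map (homOfLE inf_le_right).op n', ?_, ?_, fun y hy hyU => ?_⟩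
  · rw [map_add, TopCat.Presheaf.germ_res_apply, TopCat.Presheaf.germ_res_apply]
  · rw [map_add, TopCat.Presheaf.germ_res_apply, TopCat.Presheaf.germ_res_apply]
  · simp only [map_add, TopCat.Presheaf.germ_res_apply]
    rw [hn y hy.1 hyU, hn' y hy.2 hyU]

theorem val_smul {x : V} (a : X.presheaf.stalk x.1) {v : F.presheaf.stalk x.1} {w : M.presheaf.stalk x.1}
    (hw : Val g x v w) : Val g x (a • v) (a • w) := by
  obtain ⟨W, hWV, hx, m, n, rfl, rfl, hn⟩ := hw
  obtain ⟨O, hxO, r, rfl⟩ := X.presheaf.exists_germ_eq a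
  refine ⟨W ⊓ O, inf_le_left.trans hWV, ⟨hx, hxO⟩,
    X.presheaf.map (homOfLE (inf_le_right : W ⊓ O ≤ O)).op r •
      (show Γ(F, W ⊓ O) from F.presheaf.map (homOfLE (inf_le_left : W ⊓ O ≤ W)).op m),
    X.presheaf.map (homOfLE (inf_le_right : W ⊓ O ≤ O)).op r •
      (show Γ(M, W ⊓ O) from M.presheaf.map (homOfLE (inf_le_left : W ⊓ O ≤ W)).op n), ?_, ?_, fun y hy hyU => ?_⟩
  · rw [Mero.germ_smul, TopCat.Presheaf.germ_res_apply, TopCat.Presheaf.germ_res_apply]
  · rw [Mero.germ_smul, TopCat.Presheaf.germ_res_apply, TopCat.Presheaf.germ_res_apply]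
  · simp only [Mero.germ_smul, TopCat.Presheaf.germ_res_apply, map_smul]
    rw [hn y hy.1 hyU]

/-- Sections of the sheaf of homomorphisms extend uniquely. -/
theorem bijective_res_homSh (h : Extends M U) (F : X.Modules) (V : X.Opens) :
    Function.Bijective ((RefHull.homSh F M).presheaf.map (homOfLE (inf_le_left : V ⊓ U ≤ V)).op).hom := by
  constructor
  · intro a b hab
    refine Subtype.ext (funext fun x => LinearMap.ext fun v => ?_)
    obtain ⟨W₀, hx₀, m, rfl⟩ := F.presheaf.exists_germ_eq v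
    let i : W₀ ⊓ V ⟶ V := homOfLE inf_le_right
    let m' := F.presheaf.map (homOfLE (inf_le_left : W₀ ⊓ V ≤ W₀)).op m
    obtain ⟨Wa, hxa, ja, na, hna⟩ := RefHull.isLocSect_of_mem a (W₀ ⊓ V) i m' ⟨x.1, hx₀, x.2⟩
    obtain ⟨Wb, hxb, jb, nb, hnb⟩ := RefHull.isLocSect_of_mem b (W₀ ⊓ V) i m' ⟨x.1, hx₀, x.2⟩
    have he : M.presheaf.map (homOfLE (inf_le_left : Wa ⊓ Wb ≤ Wa)).op na =
        M.presheaf.map (homOfLE (inf_le_right : Wa ⊓ Wb ≤ Wb)).op nb := by
      refine h.eq_of_germ _ _ fun y hy hyU => ?_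
      refine (TopCat.Presheaf.germ_res_apply M.presheaf _ y hy na).trans ?_
      refine Eq.trans ?_ (TopCat.Presheaf.germ_res_apply M.presheaf _ y hy nb).symm
      rw [← hna ⟨y, hy.1⟩, ← hnb ⟨y, hy.2⟩]
      exact LinearMap.congr_fun (congrArg (fun s => s.1 ⟨y, (i.le (ja.le hy.1)), hyU⟩) hab :) _
    have e1 := hna ⟨x.1, hxa⟩
    have e2 := hnb ⟨x.1, hxb⟩
    simp only [m', TopCat.Presheaf.germ_res_apply] at e1 e2
    refine e1.trans (Eq.trans ?_ e2.symm)
    rw [← TopCat.Presheaf.germ_res_apply M.presheaf (homOfLE (inf_le_left : Wa ⊓ Wb ≤ Wa)) x.1 ⟨hxa, hxb⟩ na, he,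
      TopCat.Presheaf.germ_res_apply]
  · intro g
    choose val hval using exists_val g h
    let f : ∀ x : V, RefHull.StalkHom F M x.1 := fun x =>
      { toFun := val x
        map_add' := fun v v' => val_unique g h (hval x _) (val_add g (hval x v) (hval x v'))
        map_smul' := fun a v => val_unique g h (hval x _) (val_smul g a (hval x v)) }
    have hf : RefHull.IsLocSect F M f := by
      intro W i m x
      obtain ⟨_, ⟨W', hW', rfl⟩, hxW', hle⟩ :=
        X.isBasis_affineOpens.exists_subset_of_mem_open (SetLike.mem_coe.2 x.2) W.isOpen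
      obtain ⟨n, hn⟩ := exists_ext_value g h hW' (hle.trans i.le) (F.presheaf.map (homOfLE hle).op m)
      refine ⟨W', hxW', homOfLE hle, n, fun y => ?_⟩
      refine val_unique g h (hval _ _) ?_
      exact ⟨W', hle.trans i.le, y.2, _, n, TopCat.Presheaf.germ_res_apply F.presheaf _ _ y.2 _, rfl, hn⟩
    refine ⟨⟨f, hf⟩, Subtype.ext (funext fun y => LinearMap.ext fun v => ?_)⟩
    obtain ⟨W, hWV, hy, m, n, rfl, hw, hn⟩ := hval ⟨y.1, y.2.1⟩ v
    exact hw.symm.trans (hn y.1 hy y.2.2).symm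

/-- The unit of restriction and direct image is an isomorphism when all restrictions to traces are bijective. -/
theorem isIso_restrictUnit_of_bijective (M : X.Modules)
    (h : ∀ V : X.Opens, Function.Bijective (M.presheaf.map (homOfLE (inf_le_left : V ⊓ U ≤ V)).op).hom) :
    IsIso ((Scheme.Modules.restrictAdjunction U.ι).unit.app M) := by
  refine Scheme.Modules.Hom.isIso_iff_isIso_app.2 fun V => ?_
  rw [ConcreteCategory.isIso_iff_bijective, Scheme.Modules.restrictAdjunction_unit_app_app]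
  have heq : U.ι ''ᵁ (U.ι ⁻¹ᵁ V) = V ⊓ U := by
    rw [Scheme.Hom.image_preimage_eq_opensRange_inf, Scheme.Opens.opensRange_ι, inf_comm]
  rw [show (homOfLE (U.ι.image_preimage_le V)).op =
    (homOfLE (inf_le_left : V ⊓ U ≤ V)).op ≫ (eqToHom heq).op from Subsingleton.elim _ _, M.presheaf.map_comp]
  exact (ConcreteCategory.bijective_of_isIso (M.presheaf.map (eqToHom heq).op)).comp (h V)

theorem isIso_restrictUnit_homSh (h : Extends M U) (F : X.Modules) :
    IsIso ((Scheme.Modules.restrictAdjunction U.ι).unit.app (RefHull.homSh F M)) :=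
  isIso_restrictUnit_of_bijective _ (bijective_res_homSh h F)

/-- Sections of `O_X` extend across points of depth at least two. -/
theorem extends_structureModule [IsLocallyNoetherian X] (U : X.Opens)
    (h : ∀ x : X, x ∉ U → (2 : ℕ∞) ≤ LocCoh.depth (X.presheaf.stalk x) (X.presheaf.stalk x)) :
    Extends (Coh.structureModule X) U := fun _ hV =>
  TorsorHartogs.bijective_restrict U (fun x _ => inferInstance) h hV rfl inf_le_left

/-- On the total space of a flat morphism with `(S₂)` fibres the points of fibre dimension at least two have depth at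
least two. -/
theorem two_le_depth_of_isSkMor {A : Type u} [CommRing A] [IsNoetherianRing A] {Y : Scheme.{u}}
    [Y.Over (Spec (CommRingCat.of A))] [IsProper (Y ↘ Spec (CommRingCat.of A))]
    (hS : RelCanon.IsSkMor (Y ↘ Spec (CommRingCat.of A)) 2) (y : Y)
    (hy : (2 : WithBot ℕ∞) ≤ ringKrullDim (((Y ↘ Spec (CommRingCat.of A)).fiber ((Y ↘ Spec (CommRingCat.of A)) y)).presheaf.stalk
      ((Y ↘ Spec (CommRingCat.of A)).asFiber y))) :
    (2 : ℕ∞) ≤ LocCoh.depth (Y.presheaf.stalk y) (Y.presheaf.stalk y) := by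
  let f := Y ↘ Spec (CommRingCat.of A)
  haveI : Flat f := hS.1
  refine le_trans ?_ (Lef23.depth_fiberStalk_le (A := A) y)
  let R := (f.fiber (f y)).presheaf.stalk (f.asFiber y)
  have h1 : LocCoh.HasSk 2 R R :=
    (EGA43.FibDepth.hasSk_congr (EGA43.FibDepth.unitStalkEquiv (f.asFiber y)) 2).2 (hS.2.2 y)
  haveI : LocallyOfFiniteType (f.fiberToSpecResidueField (f y)) :=
    MorphismProperty.pullback_snd _ _ inferInstance
  haveI : IsLocallyNoetherian (f.fiber (f y)) := LocallyOfFiniteType.isLocallyNoetherian (f.fiberToSpecResidueField (f y))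
  have h2 := (CAlgH3.hasSk_self_iff 2).1 h1 (IsLocalRing.maximalIdeal R)
  let e : R ≃+* Localization.AtPrime (IsLocalRing.maximalIdeal R) :=
    (IsLocalization.atUnits R (IsLocalRing.maximalIdeal R).primeCompl (fun a ha =>
      IsLocalRing.notMem_maximalIdeal.1 ha)).toRingEquiv
  rw [← ringKrullDim_eq_of_ringEquiv e, ← CAlgH3.depth_ringEquiv e, min_eq_left (show ((2 : ℕ) : WithBot ℕ∞) ≤ ringKrullDim R by simpa using hy)] at h2
  exact WithBot.coe_le_coe.1 h2

end Groth.Agent.QG15
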