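import Groth.Agent.EGA43.FibDepth.LociScheme
import Groth.Agent.EGA43.CMChart.Main
import Groth.Agent.EGA43.DimFormula.Sub
import Groth.Agent.EGA43.RectDepthJacobson
import Groth.Agent.FlatMor12.RelDimComp
import Groth.Agent.FlatMorDim.LocalDim
import Groth.Agent.CommAlg6.S2Equidim
import Groth.Agent.CommAlg6.GeomFib
import Groth.Agent.Lef23.Structure
import Groth.Agent.S2551
import Groth.Agent.S9126
import Groth.Prelude.Def_RelCanon

/-!
# Neighbourhoods of a point whose fibre is `(S_k)`, `k ≥ 2`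

Near such a point all fibres are `(S_k)` and equidimensional of one dimension, and the codimension in the fibres of a
closed set is lower semicontinuous.
-/

set_option autoImplicit false
set_option backward.isDefEq.respectTransparency false
set_option linter.style.haveILetI false

universe u

open CategoryTheory CategoryTheory.Limits AlgebraicGeometry TopologicalSpace IsLocalRing
open Groth.Agent.EGA43.DimFormula (trdAt)

namespace Groth.Agent.QG15

variable {X Y : Scheme.{u}} (f : X ⟶ Y)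

/-- The stalk of the structure module on a fibre. -/
theorem exists_fibre_unit_equiv (y : Y) (z : f.fiber y) :
    Nonempty (((Scheme.Modules.pullback (f.fiberι y)).obj (Coh.structureModule X)).presheaf.stalk z
      ≃ₗ[(f.fiber y).presheaf.stalk z] (f.fiber y).presheaf.stalk z) := by
  let _ : Algebra (X.presheaf.stalk (f.fiberι y z)) ((f.fiber y).presheaf.stalk z) :=
    ((f.fiberι y).stalkMap z).hom.toAlgebra
  exact ⟨EGA43.FibDepth.tensorUnitEquiv
    (((ModStalk.pullbackStalkIso (f.fiberι y) z).app (Coh.structureModule X)).toLinearEquiv)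
    (EGA43.FibDepth.unitStalkEquiv (f.fiberι y z))⟩

/-- The stalks of schemes locally of finite type over a field are catenary. -/
theorem isCatenary_stalk {k : Type u} [Field k] {Z : Scheme.{u}} (p : Z ⟶ Spec (CommRingCat.of k))
    [LocallyOfFiniteType p] (z : Z) : CAlg.IsCatenary (Z.presheaf.stalk z) := by
  obtain ⟨U, hU, hz, -⟩ := exists_isAffineOpen_mem_and_subset (x := z) (U := ⊤) trivial
  have hft : (p.appLE ⊤ U le_top).hom.FiniteType :=
    LocallyOfFiniteType.finiteType_appLE p (isAffineOpen_top _) hU le_top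
  let _ := (((p.appLE ⊤ U le_top).hom).comp
    (Scheme.ΓSpecIso (CommRingCat.of k)).inv.hom).toAlgebra
  haveI : Algebra.FiniteType k Γ(Z, U) := hft.comp (RingHom.FiniteType.of_surjective _
    (ConcreteCategory.bijective_of_isIso (Scheme.ΓSpecIso (CommRingCat.of k)).inv).2)
  let _ := TopCat.Presheaf.algebra_section_stalk Z.presheaf (⟨z, hz⟩ : U)
  haveI : IsLocalization.AtPrime (Z.presheaf.stalk z) (hU.primeIdealOf ⟨z, hz⟩).asIdeal :=
    hU.isLocalization_stalk ⟨z, hz⟩
  have h1 := Groth.Agent.S9126.result k Γ(Z, U) EGA43.RectDepth.isUniversallyCatenary_of_regular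
  exact (CAlgMisc2.isUniversallyCatenary_localization (hU.primeIdealOf ⟨z, hz⟩).asIdeal.primeCompl
    (Z.presheaf.stalk z) h1).2 _ inferInstance

/-- Catenary `(S₂)` local rings are equidimensional. -/
theorem isEquidimModule_self_of_hasS2 {R : Type u} [CommRing R] [IsNoetherianRing R] [IsLocalRing R]
    (hcat : CAlg.IsCatenary R) (hS : LocCoh.HasSk 2 R R) : EGA4.IsEquidimModule R R := by
  intro p hp
  have hann : Module.annihilator R R = ⊥ := Module.annihilator_eq_bot.2 inferInstance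
  rw [hann] at hp
  haveI := hp.1.1
  have hle : p ≤ maximalIdeal R := le_maximalIdeal hp.1.1.ne_top
  have hmin : p ∈ minimalPrimes R := hp
  have h := CommAlg6.height_add_hq_of_hasS2 hcat hS hle
  rw [Ideal.height_eq_zero_iff.2 hmin, zero_add] at h
  rw [Module.supportDim_self_eq_ringKrullDim, ← IsLocalRing.maximalIdeal_height_eq_ringKrullDim]
  haveI : Nontrivial (R ⧸ p) := Ideal.Quotient.nontrivial_iff.2 hp.1.1.ne_top
  haveI : IsLocalRing (R ⧸ p) := .of_surjective' _ Ideal.Quotient.mk_surjective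
  rw [← IsLocalRing.maximalIdeal_height_eq_ringKrullDim]
  refine congrArg _ (Eq.trans ?_ h)
  show _ = ((maximalIdeal R).map (Ideal.Quotient.mk p)).height
  rw [IsLocalRing.map_maximalIdeal_of_surjective _ Ideal.Quotient.mk_surjective]

theorem isEquidimModule_congr {R M N : Type u} [CommRing R] [AddCommGroup M] [Module R M] [AddCommGroup N]
    [Module R N] (e : M ≃ₗ[R] N) (h : EGA4.IsEquidimModule R N) : EGA4.IsEquidimModule R M := by
  intro p hp
  rw [Module.supportDim_eq_of_equiv e]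
  exact h p (by rwa [← e.annihilator_eq])

variable [LocallyOfFinitePresentation f] [Flat f]

/-- The fibre dimension is constant along the generizations of a point with equidimensional `(S_k)` fibre. -/
theorem exists_assDimP_of_equiSkP (F : X.Modules) (hF : CohB1.IsFP F) (hflat : FlatMod.IsFlatOver f F) {k : ℕ}
    (hk : 1 ≤ k) (x : X) (hx : EGA43.FibDepth.EquiSkP f F k (f x) (f.asFiber x)) :
    ∃ d : ℕ, EGA43.FibDepth.AssDimP f F {d} (f x) (f.asFiber x) := by
  have := EGA43.FibDepth.isQCoh_of_isFP F hF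
  obtain ⟨V, hV, hfx, -⟩ := exists_isAffineOpen_mem_and_subset (x := f x) (U := ⊤) trivial
  obtain ⟨U, hU, hxU, hle⟩ := exists_isAffineOpen_mem_and_subset (x := x) (U := f ⁻¹ᵁ V) hfx
  have e : U ≤ f ⁻¹ᵁ V := hle
  obtain ⟨N, π, hπ, hc⟩ := EGA43.FibDepth.exists_mvPolynomial_surjective (f.appLE V U e).hom
    (RingHom.FiniteType.of_finitePresentation (f.finitePresentation_appLE hV hU e))
  let _ := Module.compHom Γ(F, U) π
  let _ := EGA43.QcohFlat.overModule f F V U e
  obtain ⟨h1, h2⟩ := EGA43.FibDepth.chart_instances f F hF hV hU e π hπ hc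
  have hz : f.fiberι (f x) (f.asFiber x) ∈ U := by rw [f.fiberι_asFiber]; exact hxU
  have hP := EGA43.FibDepth.hasAffineSpaceFibres_mvPolynomial Γ(Y, V) N
  have h := (EGA43.FibDepth.equiSkP_iff f F hV hU e π hF hπ hc hP (fun _ _ => rfl) hk hz).1 hx
  simp only [Set.mem_iUnion, Set.mem_inter_iff] at h
  obtain ⟨d, -, hd⟩ := h
  exact ⟨d, (EGA43.FibDepth.assDimP_iff f F hV hU e π hF hπ hc hP (fun _ _ => rfl) {d} hz).2 hd⟩

omit [LocallyOfFinitePresentation f] [Flat f] in
/-- A point which is maximal in its fibre is associated to the structure module of the fibre. -/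
theorem mem_ass_of_fibreMax [LocallyOfFiniteType f] {η : X} (hη : FlatMor12.IsFibreMax f η) :
    f.asFiber η ∈ AssSch.Ass ((Scheme.Modules.pullback (f.fiberι (f η))).obj (Coh.structureModule X)) := by
  let R := (f.fiber (f η)).presheaf.stalk (f.asFiber η)
  haveI : LocallyOfFiniteType (f.fiberToSpecResidueField (f η)) :=
    inferInstanceAs (LocallyOfFiniteType (pullback.snd f (Y.fromSpecResidueField (f η))))
  haveI : IsLocallyNoetherian (f.fiber (f η)) :=
    LocallyOfFiniteType.isLocallyNoetherian (f.fiberToSpecResidueField (f η))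
  have hmax : ∀ P : PrimeSpectrum R, P = closedPoint R := fun P => EGA43.DimFormula.toPt_injective (f.asFiber η) <| by
    rw [EGA43.DimFormula.toPt_closedPoint]
    exact (FlatMor12.fibreMax_asFiber f hη _ (EGA43.DimFormula.toPt_specializes _ P)).symm
  obtain ⟨e⟩ := exists_fibre_unit_equiv f (f η) (f.asFiber η)
  obtain ⟨p, hp⟩ := associatedPrimes.nonempty R R
  have hpm : p = maximalIdeal R := congrArg PrimeSpectrum.asIdeal (hmax ⟨p, hp.isPrime⟩)
  show _ ∈ associatedPrimes R _
  rw [LinearEquiv.AssociatedPrimes.eq e, ← hpm]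
  exact hp

/-- Openness of the set where the fibre is `(S_k)`, as a statement about `SkAt`. -/
theorem isOpen_skAt (k : ℕ) :
    IsOpen {x : X | RelCanon.SkAt k (Coh.structureModule (f.fiber (f x))) (f.asFiber x)} := by
  have h := Groth.Agent.S2551.result f k
  convert h using 1
  ext x
  exact (EGA43.FibDepth.hasSk_congr (EGA43.FibDepth.unitStalkEquiv (f.asFiber x)) k).symm

/-- The fibre of the restriction to an open. -/
theorem skAt_restrict (k : ℕ) (U : X.Opens) (u : U)
    (h : RelCanon.SkAt k (Coh.structureModule (f.fiber (f u.1))) (f.asFiber u.1)) :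
    RelCanon.SkAt k (Coh.structureModule ((U.ι ≫ f).fiber ((U.ι ≫ f) u))) ((U.ι ≫ f).asFiber u) := by
  obtain ⟨e₁⟩ := EGA43.CMChart.exists_fibre_stalk_equiv (U.ι ≫ f) u
  obtain ⟨e₂⟩ := EGA43.CMChart.exists_fibre_stalk_equiv f u.1
  let e := (asIso (U.ι.stalkMap u)).commRingCatIsoToRingEquiv
  have hmap : ((U.ι ≫ f).stalkMap u).hom = e.toRingHom.comp (f.stalkMap u.1).hom := by
    rw [Scheme.Hom.stalkMap_comp, CommRingCat.hom_comp]; rfl
  let q := Ideal.quotientEquiv ((maximalIdeal (Y.presheaf.stalk (f u.1))).map (f.stalkMap u.1).hom)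
    ((maximalIdeal (Y.presheaf.stalk (f u.1))).map ((U.ι ≫ f).stalkMap u).hom) e
    (by rw [hmap, ← Ideal.map_map]; rfl)
  haveI := EGA43.FibDepth.isNoetherianRing_fiber_stalk f (f u.1) (f.asFiber u.1)
  have h' := CommAlg6.hasSk_of_ringEquiv ((e₂.symm.trans q).trans e₁)
    ((EGA43.FibDepth.hasSk_congr (EGA43.FibDepth.unitStalkEquiv (f.asFiber u.1)) k).2 h)
  exact (EGA43.FibDepth.hasSk_congr (EGA43.FibDepth.unitStalkEquiv ((U.ι ≫ f).asFiber u)) k).1 h'

theorem main [IsLocallyNoetherian X] (k : ℕ) (hk : 2 ≤ k) (y : X)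
    (hy : RelCanon.SkAt k (Coh.structureModule (f.fiber (f y))) (f.asFiber y))
    (Yo : X.Opens) (hyo : y ∉ Yo) (c : WithBot ℕ∞)
    (hc : ∀ z : X, f z = f y → z ∉ Yo → z ⤳ y →
      c ≤ ringKrullDim ((f.fiber (f z)).presheaf.stalk (f.asFiber z))) :
    ∃ U : X.Opens, y ∈ U ∧ RelCanon.IsSkMor (U.ι ≫ f) k ∧
      (∃ e : ℕ, Cyc.HasRelDim (U.ι ≫ f) e) ∧
      ∀ z : X, z ∈ U → z ∉ Yo → c ≤ ringKrullDim ((f.fiber (f z)).presheaf.stalk (f.asFiber z)) := by
  let F := Coh.structureModule X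
  have hF : CohB1.IsFP F := EGA43.FibDepth.isFP_structureModule X
  have hflat : FlatMod.IsFlatOver f F := Lef23.isFlatOver_structureModule f
  -- the fibre at `y` is equidimensional
  let R := (f.fiber (f y)).presheaf.stalk (f.asFiber y)
  haveI : LocallyOfFiniteType (f.fiberToSpecResidueField (f y)) :=
    inferInstanceAs (LocallyOfFiniteType (pullback.snd f (Y.fromSpecResidueField (f y))))
  haveI : IsLocallyNoetherian (f.fiber (f y)) :=
    LocallyOfFiniteType.isLocallyNoetherian (f.fiberToSpecResidueField (f y))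
  have hSR : LocCoh.HasSk k R R :=
    (EGA43.FibDepth.hasSk_congr (EGA43.FibDepth.unitStalkEquiv (f.asFiber y)) k).2 hy
  obtain ⟨eR⟩ := exists_fibre_unit_equiv f (f y) (f.asFiber y)
  have hE : EGA43.FibDepth.EquiSkP f F k (f y) (f.asFiber y) :=
    ⟨isEquidimModule_congr eR (isEquidimModule_self_of_hasS2
        (isCatenary_stalk (f.fiberToSpecResidueField (f y)) (f.asFiber y))
        (CAlgH3.hasSk_mono hk hSR)),
      (EGA43.FibDepth.hasSk_congr eR k).2 hSR⟩
  obtain ⟨e, he⟩ := exists_assDimP_of_equiSkP f F hF hflat (le_trans (by norm_num) hk) y hE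
  have hopen := (EGA43.FibDepth.isOpen_flat_assLoci f F hF k {e}).2.1
  let W : X.Opens := ⟨_, hopen.inter (isOpen_skAt f k)⟩
  have hyW : y ∈ W := ⟨⟨hflat y, he⟩, hy⟩
  -- every fibre-maximal point near `y` has residue transcendence degree `e`
  have hmaxdim : ∀ η : X, η ∈ W → FlatMor12.IsFibreMax f η → trdAt f η = e := by
    intro η hηW hη
    obtain ⟨n, hn, hd⟩ := hηW.1.2 _ (mem_ass_of_fibreMax f hη) (subset_closure rfl)
    haveI : LocallyOfFiniteType (f.fiberToSpecResidueField (f η)) :=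
      inferInstanceAs (LocallyOfFiniteType (pullback.snd f (Y.fromSpecResidueField (f η))))
    rw [DimLib.topologicalKrullDim_eq_ptDim_of_isGenericPoint (k := Y.residueField (f η))
      (f.fiberToSpecResidueField (f η)) isGenericPoint_closure, EGA43.FibDepth.ptDim_fiber f,
      f.fiberι_asFiber] at hd
    rw [Set.mem_singleton_iff] at hn
    exact (Nat.cast_injective (R := WithBot ℕ∞) hd).trans hn
  -- every point of `W` lies under a fibre-maximal one
  have hbelow : ∀ z : X, ∃ η, η ⤳ z ∧ f η = f z ∧ FlatMor12.IsFibreMax f η := by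
    intro z
    obtain ⟨C, hC, hzC⟩ := exists_mem_irreducibleComponents_subset_of_isIrreducible _
      (isIrreducible_singleton (x := f.asFiber z))
    obtain ⟨ξ, hξ, hmax⟩ := DimLib.exists_genericPoint_of_mem_components hC
    have hfξ : f (f.fiberι (f z) ξ) = f z := (f.range_fiberι (f z)).le ⟨ξ, rfl⟩
    refine ⟨f.fiberι (f z) ξ, ?_, hfξ, fun w hw hwf => ?_⟩
    · have := (hξ.specializes (hzC rfl)).map (f.fiberι (f z)).continuous
      rwa [f.fiberι_asFiber] at this
    · obtain ⟨b, rfl⟩ : w ∈ Set.range (f.fiberι (f z)) := by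
        rw [f.range_fiberι]; exact hwf.trans hfξ
      rw [hmax b ((f.fiberι (f z)).isEmbedding.isInducing.specializes_iff.1 hw)]
  have hdimW : ∀ z ∈ W, (∀ ξ, ξ ⤳ z → f ξ = f z → trdAt f ξ ≤ e) ∧
      ∃ ξ, ξ ⤳ z ∧ f ξ = f z ∧ e ≤ trdAt f ξ := by
    intro z hz
    refine ⟨fun ξ hξ hξf => ?_, ?_⟩
    · obtain ⟨η, hη, hηf, hmax⟩ := hbelow ξ
      rw [← hmaxdim η ((hη.trans hξ).mem_open W.isOpen hz) hmax]
      haveI : LocallyOfFiniteType (f.fiberToSpecResidueField (f z)) :=
        inferInstanceAs (LocallyOfFiniteType (pullback.snd f (Y.fromSpecResidueField (f z))))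
      obtain ⟨a, rfl⟩ : ξ ∈ Set.range (f.fiberι (f z)) := by rw [f.range_fiberι]; exact hξf
      obtain ⟨b, rfl⟩ : η ∈ Set.range (f.fiberι (f z)) := by rw [f.range_fiberι]; exact hηf.trans hξf
      show DimLib.trdegHom _ ≤ DimLib.trdegHom _
      rw [← EGA43.FibDepth.ptDim_fiber f, ← EGA43.FibDepth.ptDim_fiber f]
      exact DimLib.ptDim_le_of_specializes _ ((f.fiberι (f z)).isEmbedding.isInducing.specializes_iff.1 hη)
    · obtain ⟨η, hη, hηf, hmax⟩ := hbelow z
      exact ⟨η, hη, hηf, (hmaxdim η (hη.mem_open W.isOpen hz) hmax).ge⟩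
  have hdim : ∀ z ∈ W, trdAt f z ≤ e ∧
      ringKrullDim ((f.fiber (f z)).presheaf.stalk (f.asFiber z)) = ((e - trdAt f z : ℕ) : WithBot ℕ∞) := by
    intro z hz
    obtain ⟨h1, h2⟩ := hdimW z hz
    have := EGA43.CMChart.dim_fibre_stalk f (f z) (f.asFiber z) e
      (by rw [f.fiberι_asFiber]; exact h1) (by rw [f.fiberι_asFiber]; exact h2)
    rwa [f.fiberι_asFiber] at this
  -- the closed set `X ∖ Yo`
  let Zc : Closeds X := ⟨(Yo : Set X)ᶜ, Yo.isOpen.isClosed_compl⟩
  let I := Scheme.IdealSheafData.vanishingIdeal Zc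
  have hrange : Set.range I.subschemeι = (Yo : Set X)ᶜ := by
    rw [Scheme.IdealSheafData.range_subschemeι, Scheme.IdealSheafData.coe_support_vanishingIdeal]
    rfl
  obtain ⟨y', hy'⟩ : ∃ y', I.subschemeι y' = y := hrange.ge hyo
  let g := I.subschemeι ≫ f
  let S : Set ℕ := {t | ∃ z : X, f z = f y ∧ z ∉ Yo ∧ z ⤳ y ∧ trdAt f z = t}
  have hSb : BddAbove S := ⟨e, fun t ⟨z, hzf, _, hzy, ht⟩ => ht ▸ (hdim z (hzy.mem_open W.isOpen hyW)).1⟩
  obtain ⟨z₀, hz₀f, hz₀o, hz₀y, hz₀⟩ := Nat.sSup_mem (s := S) ⟨_, y, rfl, hyo, specializes_rfl, rfl⟩ hSb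
  let m := trdAt f z₀
  have hgy : FlatMor.fibreDimAt g y' ≤ (m : WithBot ℕ∞) := by
    refine (FlatMorDim.fibreDimAt_le_iff g y' m).2 fun x' hx' hs => ?_
    show trdAt g x' ≤ _
    rw [EGA43.DimFormula.trdAt_comp]
    have h1 : I.subschemeι x' ∉ Yo := hrange.le ⟨x', rfl⟩
    have h2 := hs.map I.subschemeι.continuous
    rw [hy'] at h2
    have h3 : f (I.subschemeι x') = f y := hx'.trans (congrArg f hy')
    exact (le_csSup hSb ⟨_, h3, h1, h2, rfl⟩).trans hz₀.ge
  obtain ⟨O, hO, hOeq⟩ := I.subschemeι.isEmbedding.isInducing.isOpen_iff.1 (FlatMorDim.isOpen_fibreDimAt_le g m)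
  have hyO : y ∈ O := by
    rw [← hy']
    exact (Set.ext_iff.1 hOeq y').2 hgy
  let U : X.Opens := W ⊓ ⟨O, hO⟩
  refine ⟨U, ⟨hyW, hyO⟩, ⟨inferInstance, inferInstance, fun u => skAt_restrict f k U u u.2.1.2⟩,
    ⟨e, (FlatMor12.hasRelDim_iff (U.ι ≫ f) e).2 fun η hη => ?_⟩, fun z hz hzo => ?_⟩
  · show trdAt (U.ι ≫ f) η = e
    rw [EGA43.DimFormula.trdAt_comp]
    refine hmaxdim _ η.2.1 fun w hw hwf => ?_
    exact congrArg Subtype.val (hη ⟨w, hw.mem_open U.isOpen η.2⟩
      ((subtype_specializes_iff _ _).2 hw) hwf)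
  · obtain ⟨z', rfl⟩ : ∃ z', I.subschemeι z' = z := hrange.ge hzo
    have h1 : FlatMor.fibreDimAt g z' ≤ (m : WithBot ℕ∞) := (Set.ext_iff.1 hOeq z').1 hz.2
    have h2 : trdAt g z' ≤ m := (FlatMorDim.fibreDimAt_le_iff g z' m).1 h1 z' rfl specializes_rfl
    rw [EGA43.DimFormula.trdAt_comp] at h2
    refine (hc z₀ hz₀f hz₀o hz₀y).trans ?_
    rw [(hdim z₀ (hz₀y.mem_open W.isOpen hyW)).2, (hdim _ hz.1).2]
    exact Nat.cast_le.2 (Nat.sub_le_sub_left h2 e)

end Groth.Agent.QG15
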