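import Groth.Agent.DualLib.SerreLoci
import Groth.Agent.DualLib.Depth

/-! The dimension function of a dualizing complex normalized at all closed points. -/

set_option autoImplicit false
set_option backward.isDefEq.respectTransparency false
set_option backward.defeqAttrib.useBackward true
set_option linter.style.haveILetI false

universe u

open CategoryTheory

attribute [local instance] HasDerivedCategory.standard

namespace Groth.Agent.QG15

open Groth.Agent.DualLib

variable {A : Type u} [CommRing A] [IsNoetherianRing A] {ω : Dual.D A} (hω : Dual.IsDualizing A ω)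

/-- degree zero at the maximal ideals: the degree is minus the coheight -/
theorem exists_coheight_deg (h0 : ∀ m : PrimeSpectrum A, m.asIdeal.IsMaximal → deg hω m = 0)
    (p : PrimeSpectrum A) : ∃ e : ℕ, Order.coheight p = e ∧ deg hω p = -(e : ℤ) := by
  obtain ⟨M, hM, hpM⟩ := Ideal.exists_le_maximal p.asIdeal p.2.ne_top
  let m : PrimeSpectrum A := ⟨M, hM.isPrime⟩
  obtain ⟨s, hs1, hs2, hs3⟩ := exists_series_deg hω (show p ≤ m from hpM)
  rw [h0 m hM] at hs3
  refine ⟨s.length, le_antisymm ?_ ?_, by omega⟩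
  · refine Order.coheight_le fun t ht => ?_
    obtain ⟨M', hM', hle⟩ := Ideal.exists_le_maximal t.last.asIdeal t.last.2.ne_top
    have h1 := deg_add_length hω t
    have h2 : deg hω p = deg hω t.head := by rw [ht]
    have h3 := deg_mono hω (show t.last ≤ ⟨M', hM'.isPrime⟩ from hle)
    rw [h0 ⟨M', hM'.isPrime⟩ hM'] at h3
    exact_mod_cast (show t.length ≤ s.length by omega)
  · exact Order.length_le_coheight hs1.ge

/-- the criterion for `(S_k)` of the ring in terms of the cohomology of `ω` -/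
theorem hasSk_iff_cohomology (h0 : ∀ m : PrimeSpectrum A, m.asIdeal.IsMaximal → deg hω m = 0)
    (n : ℕ) (hmin : ∀ q : PrimeSpectrum A, (∀ r ≤ q, r = q) → deg hω q = -(n : ℤ)) :
    (∀ i : ℕ, n < i → Subsingleton (Dual.HD A ω (-(i : ℤ)))) ∧
    ∀ k : ℕ,
      (LocCoh.HasSk k A A ↔
        ∀ i : ℕ, i ≠ n →
          (i < k → Subsingleton (Dual.HD A ω (-(i : ℤ)))) ∧
          (k ≤ i → Module.supportDim A (Dual.HD A ω (-(i : ℤ))) ≤ ((i - k : ℕ) : WithBot ℕ∞))) := by
  have hsupp : ∀ (p : PrimeSpectrum A) (j : ℤ),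
      p ∈ Module.support A (Dual.HD A ω j) ↔ p ∈ Module.support A (E ω A j) :=
    fun p j => by rw [(eSelf ω j).support_eq]
  have hpA : ∀ p : PrimeSpectrum A, p ∈ Module.support A A := fun p =>
    Module.mem_support_iff'.2 ⟨1, fun r hr h => hr (by rw [smul_eq_mul, mul_one] at h; rw [h]; exact zero_mem _)⟩
  have hloc : ∀ p : PrimeSpectrum A, ∃ d N e : ℕ,
      Module.supportDim (Localization.AtPrime p.asIdeal) (LocalizedModule p.asIdeal.primeCompl A) = d ∧
      LocCoh.depth (Localization.AtPrime p.asIdeal) (LocalizedModule p.asIdeal.primeCompl A) = N ∧ N ≤ d ∧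
      Order.coheight p = e ∧ deg hω p = -(e : ℤ) ∧ (d : ℤ) = (n : ℤ) - e ∧
      (∀ i : ℤ, p ∈ Module.support A (E ω A i) → -(n : ℤ) ≤ i ∧ i ≤ -(e : ℤ) - N) ∧
      p ∈ Module.support A (E ω A (-(e : ℤ) - N)) := by
    intro p
    obtain ⟨d, N, hd, hN, hle, hr, -, hhi⟩ := local_degrees hω A p (hpA p)
    obtain ⟨d', hd', -, q, -, -, hqm, hqd⟩ := exists_localDim hω p A (hpA p)
    rw [hd] at hd'
    have hdd : d = d' := by exact_mod_cast hd'
    obtain ⟨e, he, hde⟩ := exists_coheight_deg hω h0 p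
    have hq : deg hω q = -(n : ℤ) := hmin q fun r hr => hqm r (hpA r) hr
    exact ⟨d, N, e, hd, hN, hle, he, hde, by omega, fun i hi => by have := hr i hi; omega, hde ▸ hhi⟩
  refine ⟨fun i hi => ?_, fun k => ⟨fun hS i hi => ?_, fun h p hp => ?_⟩⟩
  · refine (Module.support_eq_empty_iff (R := A)).1 (Set.eq_empty_iff_forall_notMem.2 fun p hp => ?_)
    obtain ⟨d, N, e, -, -, -, -, -, -, hr, -⟩ := hloc p
    have := hr _ ((hsupp p _).1 hp)
    omega
  · have key : ∀ p ∈ Module.support A (Dual.HD A ω (-(i : ℤ))), ∃ e : ℕ, Order.coheight p = e ∧ e + k ≤ i := by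
      intro p hp
      obtain ⟨d, N, e, hd, hN, hle, he, -, hdn, hr, -⟩ := hloc p
      have h := hS p.asIdeal
      rw [hd, hN] at h
      have h' : k ≤ N ∨ d ≤ N := (min_le_iff.1 h).imp (fun h => by exact_mod_cast h) (fun h => by exact_mod_cast h)
      have := hr _ ((hsupp p _).1 hp)
      exact ⟨e, he, by omega⟩
    refine ⟨fun hlt => ?_, fun hle => ?_⟩
    · refine (Module.support_eq_empty_iff (R := A)).1 (Set.eq_empty_iff_forall_notMem.2 fun p hp => ?_)
      obtain ⟨e, -, he⟩ := key p hp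
      omega
    · refine supportDim_le_of_coheight _ fun p hp => ?_
      obtain ⟨e, he, hei⟩ := key p hp
      rw [he, Nat.cast_le]
      omega
  · obtain ⟨d, N, e, hd, hN, hle, he, -, hdn, -, hhi⟩ := hloc ⟨p, hp⟩
    rw [hd, hN]
    rcases hle.lt_or_eq with hlt | rfl
    · refine min_le_of_left_le ?_
      obtain ⟨hA, hB⟩ := h (e + N) (by omega)
      have hhi' : (⟨p, hp⟩ : PrimeSpectrum A) ∈ Module.support A (Dual.HD A ω (-((e + N : ℕ) : ℤ))) :=
        (hsupp _ _).2 (by rw [show -((e + N : ℕ) : ℤ) = -(e : ℤ) - N by push_cast; omega]; exact hhi)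
      by_cases hlt' : e + N < k
      · haveI := hA hlt'
        exact absurd hhi' (notMem_support_of_subsingleton _)
      · have h2 := coheight_le_of_supportDim_le (hB (not_lt.1 hlt')) hhi'
        rw [he, Nat.cast_le] at h2
        exact_mod_cast (show k ≤ N by omega)
    · exact min_le_of_right_le le_rfl

end Groth.Agent.QG15
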