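import Groth.Agent.QG15.DualDeg
import Groth.Agent.DualLib.Shift
import Groth.Agent.DualLib.Catenary
import Groth.Agent.DualLib.DbEquiv
import Groth.Agent.CAlgH3.CatenaryS2Equidim
import Groth.Agent.CAlgH3.Serre

/-! Endomorphisms and self-extensions of the dualizing module of a local ring with `(S₂)`, `(S₃)`. -/

set_option autoImplicit false
set_option backward.isDefEq.respectTransparency false
set_option backward.defeqAttrib.useBackward true
set_option linter.style.haveILetI false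

universe u

open CategoryTheory CategoryTheory.Limits CategoryTheory.Pretriangulated DerivedCategory

attribute [local instance] HasDerivedCategory.standard

namespace Groth.Agent.QG15

open Groth.Agent.DualLib

variable {A : Type u} [CommRing A]

/-- `Hom(M, H⁰X) = Hom(M, X)` for `X` in degrees `≥ 0`, through the truncation. -/
theorem exists_iso_homEquiv (X : Dual.D A) [X.IsGE 0] :
    ∃ e : Dual.inD A (Dual.HD A X 0) ≅ ((ts A).truncLT 1).obj X, ∀ (M : Type u) [AddCommGroup M] [Module A M],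
      Function.Bijective fun φ : M →ₗ[A] Dual.HD A X 0 =>
        (S0 A).map (ModuleCat.ofHom φ) ≫ e.hom ≫ ((ts A).truncLTι 1).app X := by
  let Y := ((ts A).truncLT 1).obj X
  haveI : Y.IsLE 0 := (ts A).isLE_truncLT_obj _ _ _ (by omega)
  haveI : Y.IsGE 0 := inferInstance
  obtain ⟨e⟩ := exists_single_iso Y 0
  let e' : Dual.inD A (Dual.HD A X 0) ≅ Y :=
    (S0 A).mapIso (LinearEquiv.toModuleIso (hTruncLT X 1 0 (by omega))).symm ≪≫ e
  refine ⟨e', fun M _ _ => ⟨fun φ ψ h => ?_, fun χ => ?_⟩⟩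
  · have hT := (ts A).triangleLTGE_distinguished 1 X
    let δ := ((S0 A).map (ModuleCat.ofHom φ) - (S0 A).map (ModuleCat.ofHom ψ)) ≫ e'.hom
    have hδ : δ ≫ ((ts A).truncLTι 1).app X = 0 := by
      simp only [δ, Category.assoc, Preadditive.sub_comp]
      exact sub_eq_zero.2 h
    obtain ⟨g, hg⟩ := Triangle.coyoneda_exact₂ _ (inv_rot_of_distTriang _ hT) δ hδ
    haveI : ((((ts A).truncGE 1).obj X)⟦(-1 : ℤ)⟧).IsGE 2 := (ts A).isGE_shift _ 1 (-1) 2 (by omega)
    have hg0 : g = 0 := (ts A).zero (X := Dual.inD A M) (Y := (((ts A).truncGE 1).obj X)⟦(-1 : ℤ)⟧) g 0 2 (by omega)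
    have hδ0 : δ = 0 := by rw [hg, hg0]; exact zero_comp
    rw [Preadditive.IsIso.comp_right_eq_zero] at hδ0
    have := (S0 A).map_injective (sub_eq_zero.1 hδ0)
    exact LinearMap.ext fun x => congrArg (fun t => t.hom x) this
  · have hT := (ts A).triangleLTGE_distinguished 1 X
    haveI : (((ts A).truncGE 1).obj X).IsGE 1 := inferInstance
    have h0 : χ ≫ ((ts A).truncGEπ 1).app X = 0 :=
      (ts A).zero (X := Dual.inD A M) (Y := ((ts A).truncGE 1).obj X) _ 0 1 (by omega)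
    obtain ⟨g, hg⟩ := Triangle.coyoneda_exact₂ _ hT χ h0
    refine ⟨((S0 A).preimage (g ≫ e'.inv)).hom, ?_⟩
    show (S0 A).map (ModuleCat.ofHom _) ≫ _ = χ
    rw [show ModuleCat.ofHom ((S0 A).preimage (g ≫ e'.inv)).hom = (S0 A).preimage (g ≫ e'.inv) from rfl,
      Functor.map_preimage, Category.assoc, Iso.inv_hom_id_assoc, hg]
    rfl

variable [IsNoetherianRing A] [IsLocalRing A] {ω : Dual.D A} (hω : Dual.IsDualizing A ω)
  (hn : Dual.IsNormalized A ω) (n : ℕ) (hd : ringKrullDim A = n)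

include hω hn hd

theorem criterion (hS2 : LocCoh.HasSk 2 A A) :
    (∀ i : ℕ, n < i → Subsingleton (Dual.HD A ω (-(i : ℤ)))) ∧
    ∀ k : ℕ,
      (LocCoh.HasSk k A A ↔
        ∀ i : ℕ, i ≠ n →
          (i < k → Subsingleton (Dual.HD A ω (-(i : ℤ)))) ∧
          (k ≤ i → Module.supportDim A (Dual.HD A ω (-(i : ℤ))) ≤ ((i - k : ℕ) : WithBot ℕ∞))) := by
  have h0 : ∀ m : PrimeSpectrum A, m.asIdeal.IsMaximal → deg hω m = 0 := by
    intro m hm
    obtain rfl : m = IsLocalRing.closedPoint A := PrimeSpectrum.ext (IsLocalRing.eq_maximalIdeal hm)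
    by_contra hne
    haveI : Subsingleton (E ω (A ⧸ (IsLocalRing.closedPoint A).asIdeal) (deg hω (IsLocalRing.closedPoint A))) :=
      hn _ hne
    exact notMem_support_of_subsingleton _ ((deg_spec hω (IsLocalRing.closedPoint A) _).2 rfl)
  refine hasSk_iff_cohomology hω h0 n fun q hq => ?_
  obtain ⟨e, he, hde⟩ := exists_coheight_deg hω h0 q
  have hm : q.asIdeal ∈ minimalPrimes A :=
    ⟨⟨q.2, bot_le⟩, fun r hr hrq => le_of_eq (congrArg PrimeSpectrum.asIdeal (hq ⟨r, hr.1⟩ hrq)).symm⟩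
  have h1 := CAlgH3.CatenaryS2Equidim.ringKrullDim_quotient_eq (isCatenary hω) (fun p hp => by
    have h := (CAlgH3.hasSk_self_iff 2).1 hS2 p.asIdeal
    rw [IsLocalization.AtPrime.ringKrullDim_eq_height p.asIdeal] at h
    exact WithBot.coe_le_coe.1 ((le_min le_rfl (WithBot.coe_le_coe.2 hp)).trans h)) q.asIdeal hm
  rw [hd, ringKrullDim_quotient_eq_coheight, he] at h1
  have h2 : e = n := by exact_mod_cast h1
  omega

/-- the truncation above degree zero of `ω⟦-n⟧` has no maps into low shifts of it -/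
theorem subsingleton_hom_truncGE (hS2 : LocCoh.HasSk 2 A A) (k : ℕ) (hS : LocCoh.HasSk k A A) (e : ℤ) (he : e < k) :
    Subsingleton (((ts A).truncGE 1).obj (ω⟦(-(n : ℤ))⟧) ⟶ (ω⟦(-(n : ℤ))⟧)⟦e⟧) := by
  obtain ⟨-, hcrit⟩ := criterion hω hn n hd hS2
  obtain ⟨a, b, hge, hle⟩ := exists_bound hω
  haveI := hle
  haveI : (ω⟦(-(n : ℤ))⟧).IsLE (b + n) := (ts A).isLE_shift ω b _ _ (by omega)
  let T := ((ts A).truncGE 1).obj (ω⟦(-(n : ℤ))⟧)
  haveI : T.IsGE 1 := inferInstance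
  haveI : T.IsLE (b + n) := inferInstance
  refine vanish' T 1 (b + n) e fun q hq _ => ?_
  let eH : Dual.HD A ω (q - n) ≃ₗ[A] Dual.HD A T q :=
    (hdShift ω (-(n : ℤ)) q (q - n) (by omega)).symm.trans (hTruncGE _ 1 q hq)
  suffices hs : Subsingleton (E ω (Dual.HD A ω (q - n)) (e + q - n)) by
    haveI := hs
    haveI : Subsingleton (E (ω⟦(-(n : ℤ))⟧) (Dual.HD A ω (q - n)) (e + q)) :=
      (homShift (Dual.inD A (Dual.HD A ω (q - n))) ω (-(n : ℤ)) (e + q) (e + q - n) (by omega)).symm.injective.subsingleton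
    exact (econgr (ω⟦(-(n : ℤ))⟧) eH (e + q)).injective.subsingleton
  haveI := hω.finite_cohomology (q - n)
  rcases lt_or_ge 0 (q - (n : ℤ)) with hpos | hnp
  · haveI : Subsingleton (Dual.HD A ω (q - n)) := by
      haveI : Subsingleton (E ω A (q - n)) := subsingleton_of_pos hω hn A _ hpos
      exact (eSelf ω (q - n)).symm.injective.subsingleton
    exact subsingleton_of_subsingleton ω _
  · obtain ⟨i, hi⟩ : ∃ i : ℕ, q - (n : ℤ) = -(i : ℤ) := ⟨(-(q - (n : ℤ))).toNat, by omega⟩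
    have hin : i ≠ n := by omega
    obtain ⟨hA, hB⟩ := (hcrit k).1 hS i hin
    rw [hi]
    haveI := hω.finite_cohomology (-(i : ℤ))
    by_cases hlt : i < k
    · haveI := hA hlt
      exact subsingleton_of_subsingleton ω _
    · exact subsingleton_of_lt hω hn _ (i - k)
        (fun p hp => coheight_le_of_supportDim_le (hB (not_lt.1 hlt)) hp) _ (by omega)

theorem isGE_shift : (ω⟦(-(n : ℤ))⟧).IsGE 0 := by
  refine (DRingLib.isGE_iff_HD _ 0).2 fun q hq => ?_
  haveI : Subsingleton (Dual.HD A ω (q - n)) := by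
    haveI : Subsingleton (E ω A (q - n)) :=
      subsingleton_of_lt hω hn A n (fun p _ => by
        have h : (Order.coheight p : WithBot ℕ∞) ≤ ringKrullDim A := Order.coheight_le_krullDim p
        rw [hd] at h
        exact WithBot.coe_le_coe.1 h) _ (by omega)
    exact (eSelf ω (q - n)).symm.injective.subsingleton
  exact (hdShift ω (-(n : ℤ)) q (q - n) (by omega)).injective.subsingleton

theorem bijective_toEnd (hS2 : LocCoh.HasSk 2 A A) :
    Function.Bijective (fun r : A =>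
      r • (LinearMap.id : Dual.HD A ω (-(n : ℤ)) →ₗ[A] Dual.HD A ω (-(n : ℤ)))) := by
  let Ω := ω⟦(-(n : ℤ))⟧
  haveI : Ω.IsGE 0 := isGE_shift hω hn n hd
  have hΩ := isDualizing_shift hω (-(n : ℤ))
  obtain ⟨e, he⟩ := exists_iso_homEquiv Ω
  let K := Dual.HD A Ω 0
  let ι := e.hom ≫ ((ts A).truncLTι 1).app Ω
  have key : Function.Bijective fun φ : Ω ⟶ Ω => ((ts A).truncLTι 1).app Ω ≫ φ := by
    have s0 := subsingleton_hom_truncGE hω hn n hd hS2 2 hS2 0 (by norm_num)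
    have s1 := subsingleton_hom_truncGE hω hn n hd hS2 2 hS2 (0 + 1) (by norm_num)
    let z := (shiftFunctorZero (Dual.D A) ℤ).app Ω
    refine ⟨fun φ ψ h => ?_, fun χ => ?_⟩
    · have hi : Function.Injective (pre Ω (((ts A).truncLTι 1).app Ω) 0) := by
        rw [injective_iff_map_eq_zero]
        intro x hx
        obtain ⟨y, rfl⟩ := (exact_trunc Ω 1 0 x).1 hx
        rw [Subsingleton.elim (α := ((ts A).truncGE 1).obj Ω ⟶ Ω⟦(0 : ℤ)⟧) y 0, map_zero]
      rw [← cancel_mono z.inv]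
      refine hi ?_
      show ((ts A).truncLTι 1).app Ω ≫ φ ≫ z.inv = ((ts A).truncLTι 1).app Ω ≫ ψ ≫ z.inv
      exact (Category.assoc _ _ _).symm.trans ((congrArg (· ≫ z.inv) h).trans (Category.assoc _ _ _))
    · obtain ⟨ψ, hψ⟩ := surjective_pre_truncLT (W := Ω) Ω 1 0 s1 (χ ≫ z.inv)
      refine ⟨ψ ≫ z.hom, ?_⟩
      show ((ts A).truncLTι 1).app Ω ≫ ψ ≫ z.hom = χ
      rw [← Category.assoc, show ((ts A).truncLTι 1).app Ω ≫ ψ = χ ≫ z.inv from hψ, Category.assoc, Iso.inv_hom_id,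
        Category.comp_id]
  have h2 : Function.Bijective (fun r : A => r • ι) := by
    have h3 : (fun r : A => r • ι) =
        (fun χ => e.hom ≫ χ) ∘ (fun φ : Ω ⟶ Ω => ((ts A).truncLTι 1).app Ω ≫ φ) ∘ (fun r : A => r • 𝟙 Ω) :=
      funext fun r => by simp [ι]
    rw [h3]
    have he' : Function.Bijective fun χ : ((ts A).truncLT 1).obj Ω ⟶ Ω => e.hom ≫ χ :=
      ⟨fun a b h => (cancel_epi e.hom).1 h, fun χ => ⟨e.inv ≫ χ, e.hom_inv_id_assoc χ⟩⟩
    exact (he'.comp key).comp hΩ.toEnd_bijective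
  have h4 : Function.Bijective (fun r : A => r • (LinearMap.id : K →ₗ[A] K)) := by
    refine (Function.Bijective.of_comp_iff' (he K) _).1 ?_
    convert h2 using 1
    funext r
    show (S0 A).map (ModuleCat.ofHom (r • (LinearMap.id : K →ₗ[A] K))) ≫ ι = r • ι
    rw [show ModuleCat.ofHom (r • (LinearMap.id : K →ₗ[A] K)) = r • 𝟙 (ModuleCat.of A K) from rfl,
      Functor.map_smul, CategoryTheory.Functor.map_id, Linear.smul_comp, Category.id_comp]
  let c : K ≃ₗ[A] Dual.HD A ω (-(n : ℤ)) := hdShift ω (-(n : ℤ)) 0 (-(n : ℤ)) (by omega)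
  have h5 : (fun r : A => r • (LinearMap.id : Dual.HD A ω (-(n : ℤ)) →ₗ[A] Dual.HD A ω (-(n : ℤ)))) =
      c.conj ∘ (fun r : A => r • (LinearMap.id : K →ₗ[A] K)) := funext fun r => by
    simp [LinearEquiv.conj_id]
  rw [h5]
  exact c.conj.bijective.comp h4

theorem subsingleton_ext_one (hS3 : LocCoh.HasSk 3 A A) :
    Subsingleton (Dual.inD A (Dual.HD A ω (-(n : ℤ))) ⟶ (Dual.inD A (Dual.HD A ω (-(n : ℤ))))⟦(1 : ℤ)⟧) := by
  have hS2 : LocCoh.HasSk 2 A A := fun q _ => le_trans (min_le_min_right _ (by norm_num)) (hS3 q)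
  let Ω := ω⟦(-(n : ℤ))⟧
  haveI : Ω.IsGE 0 := isGE_shift hω hn n hd
  have hΩ := isDualizing_shift hω (-(n : ℤ))
  obtain ⟨e, -⟩ := exists_iso_homEquiv Ω
  let Y := ((ts A).truncLT 1).obj Ω
  haveI : Y.IsLE 0 := (ts A).isLE_truncLT_obj _ _ _ (by omega)
  haveI : Subsingleton (Y ⟶ Ω⟦(1 : ℤ)⟧) := by
    haveI : Subsingleton ((𝟭 (Dual.D A)).obj Ω ⟶ Ω⟦(1 : ℤ)⟧) := hΩ.ext_self_subsingleton 1 (by norm_num)
    exact Function.Surjective.subsingleton (surjective_pre_truncLT (W := Ω) Ω 1 1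
      (subsingleton_hom_truncGE hω hn n hd hS2 3 hS3 (1 + 1) (by norm_num)))
  haveI : Subsingleton (Y ⟶ Y⟦(1 : ℤ)⟧) := by
    refine subsingleton_of_forall_eq 0 fun φ => ?_
    have hT := rot_of_distTriang _ (rot_of_distTriang _ ((ts A).triangleLTGE_distinguished 1 Ω))
    obtain ⟨g, hg⟩ := Triangle.coyoneda_exact₂ _ hT φ
      (Subsingleton.elim (α := Y ⟶ Ω⟦(1 : ℤ)⟧) _ _)
    haveI : (((ts A).truncGE 1).obj Ω).IsGE 1 := inferInstance
    have hg0 : g = 0 := (ts A).zero (X := Y) (Y := ((ts A).truncGE 1).obj Ω) g 0 1 (by omega)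
    rw [hg, hg0]
    exact zero_comp
  let c : Dual.inD A (Dual.HD A ω (-(n : ℤ))) ≅ Y :=
    (S0 A).mapIso (LinearEquiv.toModuleIso (hdShift ω (-(n : ℤ)) 0 (-(n : ℤ)) (by omega))).symm ≪≫ e
  exact (Iso.homCongr c ((shiftFunctor (Dual.D A) (1 : ℤ)).mapIso c)).injective.subsingleton

end Groth.Agent.QG15
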