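import Groth.Agent.QG15.DualDeg
import Groth.Agent.DualLib.Shift
import Groth.Agent.CAlg15.DepthKernel
import Groth.Agent.CommAlg6.DepthOne

/-! Dualizing complexes which are a module in degree zero off a closed set of codimension one are ordinary,
and the module satisfies `(S₂)`. -/

set_option autoImplicit false
set_option backward.isDefEq.respectTransparency false
set_option backward.defeqAttrib.useBackward true
set_option linter.style.haveILetI false

universe u

open CategoryTheory CategoryTheory.Limits CategoryTheory.Pretriangulated DerivedCategory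
open scoped Pointwise

attribute [local instance] HasDerivedCategory.standard

namespace Groth.Agent.QG15

open Groth.Agent.DualLib

variable {A : Type u} [CommRing A] [IsNoetherianRing A] {ω : Dual.D A} (hω : Dual.IsDualizing A ω)

/-- `Hom(M, H⁰ω) = Hom(M, ω)` when `ω` lives in degrees `≥ 0`, naturally in `M`. -/
theorem exists_homEquiv (X : Dual.D A) [X.IsGE 0] :
    ∃ (ι : Dual.inD A (Dual.HD A X 0) ⟶ X), ∀ (M : Type u) [AddCommGroup M] [Module A M],
      Function.Bijective fun φ : M →ₗ[A] Dual.HD A X 0 => (S0 A).map (ModuleCat.ofHom φ) ≫ ι := by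
  let Y := ((ts A).truncLT 1).obj X
  haveI : Y.IsLE 0 := (ts A).isLE_truncLT_obj _ _ _ (by omega)
  haveI : Y.IsGE 0 := inferInstance
  obtain ⟨e⟩ := exists_single_iso Y 0
  let e' : Dual.inD A (Dual.HD A X 0) ≅ Y :=
    (S0 A).mapIso (LinearEquiv.toModuleIso (hTruncLT X 1 0 (by omega))).symm ≪≫ e
  refine ⟨e'.hom ≫ ((ts A).truncLTι 1).app X, fun M _ _ => ⟨fun φ ψ h => ?_, fun χ => ?_⟩⟩
  · have hT := (ts A).triangleLTGE_distinguished 1 X
    let δ := ((S0 A).map (ModuleCat.ofHom φ) - (S0 A).map (ModuleCat.ofHom ψ)) ≫ e'.hom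
    have hδ : δ ≫ ((ts A).truncLTι 1).app X = 0 := by
      simp only [δ, Category.assoc, Preadditive.sub_comp]
      exact sub_eq_zero.2 h
    obtain ⟨g, hg⟩ := Triangle.coyoneda_exact₂ _ (inv_rot_of_distTriang _ hT) δ hδ
    haveI : ((((ts A).truncGE 1).obj X)⟦(-1 : ℤ)⟧).IsGE 2 := (ts A).isGE_shift _ 1 (-1) 2 (by omega)
    have hg0 : g = 0 := (ts A).zero (X := Dual.inD A M) (Y := (((ts A).truncGE 1).obj X)⟦(-1 : ℤ)⟧) g 0 2 (by omega)
    have hδ0 : δ = 0 := by rw [hg, hg0]; exact zero_comp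
    rw [Preadditive.IsIso.comp_right_eq_zero] at hδ0
    have := (S0 A).map_injective (sub_eq_zero.1 hδ0)
    exact LinearMap.ext fun x => congrArg (fun t => t.hom x) this
  · have hT := (ts A).triangleLTGE_distinguished 1 X
    haveI : (((ts A).truncGE 1).obj X).IsGE 1 := inferInstance
    have h0 : χ ≫ ((ts A).truncGEπ 1).app X = 0 :=
      (ts A).zero (X := Dual.inD A M) (Y := ((ts A).truncGE 1).obj X) _ 0 1 (by omega)
    obtain ⟨g, hg⟩ := Triangle.coyoneda_exact₂ _ hT χ h0
    refine ⟨((S0 A).preimage (g ≫ e'.inv)).hom, ?_⟩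
    show (S0 A).map (ModuleCat.ofHom _) ≫ _ = χ
    rw [show ModuleCat.ofHom ((S0 A).preimage (g ≫ e'.inv)).hom = (S0 A).preimage (g ≫ e'.inv) from rfl,
      Functor.map_preimage, Category.assoc, Iso.inv_hom_id_assoc, hg]
    rfl

variable (J : Ideal A) (hJ : 1 ≤ J.height)
  (hoff : ∀ p : PrimeSpectrum A, ¬ J ≤ p.asIdeal → ∀ i : ℤ, i ≠ 0 → p ∉ Module.support A (Dual.HD A ω i))

omit [IsNoetherianRing A] in
theorem mem_support_self' (p : PrimeSpectrum A) : p ∈ Module.support A A :=
  Module.mem_support_iff'.2 ⟨1, fun r hr h => hr (by rw [smul_eq_mul, mul_one] at h; rw [h]; exact zero_mem _)⟩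

include hω hJ hoff

theorem deg_minimal {q : PrimeSpectrum A} (hq : ∀ r ≤ q, r = q) : deg hω q = 0 := by
  have hnJ : ¬ J ≤ q.asIdeal := fun h => by
    have hq0 : q.asIdeal.height = 0 := by
      rw [PrimeSpectrum.height_eq_orderHeight]
      exact Order.height_eq_zero.2 fun r hr => (hq r hr).ge
    exact not_le.2 (by norm_num : (0 : ℕ∞) < 1) (hJ.trans ((Ideal.height_mono h).trans hq0.le))
  have hmem : q ∈ Module.support A (E ω A (deg hω q)) :=
    mem_support_of_minimal' hω le_rfl A (fun r _ hr => hq r hr) (mem_support_self' q)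
  rw [(eSelf ω (deg hω q)).support_eq] at hmem
  by_contra hne
  exact hoff q hnJ _ hne hmem

theorem degree_spec (p : PrimeSpectrum A) :
    0 ≤ deg hω p ∧ (p.asIdeal.height : ℕ∞) ≤ (deg hω p).toNat ∧
      ∃ d : ℕ, (d : ℤ) = deg hω p ∧
        Module.supportDim (Localization.AtPrime p.asIdeal) (LocalizedModule p.asIdeal.primeCompl A) = d ∧
        ∀ i : ℤ, p ∈ Module.support A (Dual.HD A ω i) → 0 ≤ i := by
  obtain ⟨q, hqp, hq⟩ : ∃ q ≤ p, ∀ r ≤ q, r = q := by
    obtain ⟨q, -, h1, h2⟩ := exists_min_below p A (mem_support_self' p) (mem_support_self' p) le_rfl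
    exact ⟨q, h1, fun r hr => h2 r (mem_support_self' r) hr⟩
  have h0 := deg_mono hω hqp
  rw [deg_minimal hω J hJ hoff hq] at h0
  obtain ⟨d, N, hd, -, -, hr, -, -⟩ := local_degrees hω A p (mem_support_self' p)
  obtain ⟨d', hd', hall, q', -, -, hqm, hqd⟩ := exists_localDim hω p A (mem_support_self' p)
  rw [hd] at hd'
  have hdd : d = d' := by exact_mod_cast hd'
  rw [deg_minimal hω J hJ hoff (fun r hr => hqm r (mem_support_self' r) hr)] at hqd
  refine ⟨h0, ?_, d, by omega, hd, fun i hi => ?_⟩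
  · rw [PrimeSpectrum.height_eq_orderHeight]
    refine Order.height_le fun t ht => ?_
    obtain ⟨q₀, -, h1, h2⟩ := exists_min_below t.head A (mem_support_self' _) (mem_support_self' t.head) le_rfl
    have h3 := deg_mono hω h1
    rw [deg_minimal hω J hJ hoff (fun r hr => h2 r (mem_support_self' r) hr)] at h3
    have h4 := deg_add_length hω t
    rw [show t.last = p from ht] at h4
    exact_mod_cast (show t.length ≤ (deg hω p).toNat by omega)
  · rw [← (eSelf ω i).support_eq] at hi
    have := hr i hi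
    omega

theorem isGE : ω.IsGE 0 := (DRingLib.isGE_iff_HD ω 0).2 fun i hi =>
  (Module.support_eq_empty_iff (R := A)).1 (Set.eq_empty_iff_forall_notMem.2 fun p hp => by
    obtain ⟨-, -, d, -, -, h⟩ := degree_spec hω J hJ hoff p
    have := h i hp
    omega)

/-- an element killed by a prime of nonzero degree dies locally -/
theorem exists_smul_eq_zero {p : PrimeSpectrum A} (hp : deg hω p ≠ 0) (z : Dual.HD A ω 0)
    (hz : ∀ b ∈ p.asIdeal, b • z = 0) : ∃ s ∉ p.asIdeal, s • z = 0 := by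
  haveI := isGE hω J hJ hoff
  obtain ⟨ι, hι⟩ := exists_homEquiv ω
  let φ : (A ⧸ p.asIdeal) →ₗ[A] Dual.HD A ω 0 :=
    Submodule.liftQ p.asIdeal (LinearMap.toSpanSingleton A _ z) fun b hb => hz b hb
  let χ : E ω (A ⧸ p.asIdeal) 0 := (S0 A).map (ModuleCat.ofHom φ) ≫ ι ≫ ((shiftFunctorZero (Dual.D A) ℤ).app ω).inv
  obtain ⟨s, hs, h⟩ := Module.notMem_support_iff'.1
    (fun h => hp (((deg_spec hω p 0).1 h).symm)) χ
  refine ⟨s, hs, ?_⟩
  have h' : (S0 A).map (ModuleCat.ofHom (s • φ)) ≫ ι = (S0 A).map (ModuleCat.ofHom (0 : (A ⧸ p.asIdeal) →ₗ[A] Dual.HD A ω 0)) ≫ ι := by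
    rw [← cancel_mono ((shiftFunctorZero (Dual.D A) ℤ).app ω).inv]
    rw [show ModuleCat.ofHom (s • φ) = s • ModuleCat.ofHom φ from rfl,
      show ModuleCat.ofHom (0 : (A ⧸ p.asIdeal) →ₗ[A] Dual.HD A ω 0) = 0 from rfl, Functor.map_smul, Functor.map_zero,
      zero_comp, zero_comp, Linear.smul_comp, Linear.smul_comp, Category.assoc]
    exact h
  have h1 : s • φ (Submodule.Quotient.mk 1) = 0 :=
    congrArg (fun f : (A ⧸ p.asIdeal) →ₗ[A] Dual.HD A ω 0 => f (Submodule.Quotient.mk 1)) ((hι _).injective h')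
  rwa [show φ (Submodule.Quotient.mk 1) = z from one_smul A z] at h1

/-- homomorphisms `p → L` extend locally at `p` -/
theorem exists_extend {p : PrimeSpectrum A} (hp : deg hω p ≠ 1) (ψ : p.asIdeal →ₗ[A] Dual.HD A ω 0) :
    ∃ s ∉ p.asIdeal, ∃ l : Dual.HD A ω 0, ∀ b : p.asIdeal, s • ψ b = (b : A) • l := by
  haveI := isGE hω J hJ hoff
  obtain ⟨ι, hι⟩ := exists_homEquiv ω
  let θ := ι ≫ ((shiftFunctorZero (Dual.D A) ℤ).app ω).inv
  let χ : E ω p.asIdeal 0 := (S0 A).map (ModuleCat.ofHom ψ) ≫ θ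
  obtain ⟨d, hd, -⟩ := exists_delta (W := ω) p.asIdeal.injective_subtype (Submodule.mkQ_surjective p.asIdeal)
    (LinearMap.exact_subtype_mkQ p.asIdeal) 0 1 (by omega)
  obtain ⟨s, hs, h⟩ := Module.notMem_support_iff'.1
    (fun h => hp (((deg_spec hω p 1).1 h).symm)) (d χ)
  obtain ⟨η, hη⟩ := (hd (s • χ)).1 (by rw [map_smul]; exact h)
  obtain ⟨g, hg⟩ := (hι A).surjective (η ≫ ((shiftFunctorZero (Dual.D A) ℤ).app ω).hom)
  refine ⟨s, hs, g 1, fun b => ?_⟩
  have h' : (S0 A).map (ModuleCat.ofHom (g ∘ₗ p.asIdeal.subtype)) ≫ ι = (S0 A).map (ModuleCat.ofHom (s • ψ)) ≫ ι := by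
    rw [show ModuleCat.ofHom (g ∘ₗ p.asIdeal.subtype) = ModuleCat.ofHom p.asIdeal.subtype ≫ ModuleCat.ofHom g from rfl,
      Functor.map_comp, Category.assoc, show (S0 A).map (ModuleCat.ofHom g) ≫ ι = _ from hg, ← Category.assoc,
      show (S0 A).map (ModuleCat.ofHom p.asIdeal.subtype) ≫ η = s • χ from hη,
      show ModuleCat.ofHom (s • ψ) = s • ModuleCat.ofHom ψ from rfl, Functor.map_smul, Linear.smul_comp,
      Linear.smul_comp]
    simp [χ, θ]
  have := congrArg (fun f : p.asIdeal →ₗ[A] Dual.HD A ω 0 => f b) ((hι _).injective h')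
  simp only [LinearMap.comp_apply, LinearMap.smul_apply, Submodule.subtype_apply] at this
  rw [← this, ← map_smul, smul_eq_mul, mul_one]

theorem one_le_depth {p : PrimeSpectrum A} (hp : deg hω p ≠ 0) :
    1 ≤ LocCoh.depth (Localization.AtPrime p.asIdeal) (LocalizedModule p.asIdeal.primeCompl (Dual.HD A ω 0)) := by
  haveI : Module.Finite A (Dual.HD A ω 0) := hω.finite_cohomology 0
  refine (CommAlg6.one_le_depth_localized_iff p.asIdeal).2 fun hass => ?_
  obtain ⟨-, z, hz⟩ := isAssociatedPrime_iff.1 hass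
  obtain ⟨s, hs, h⟩ := exists_smul_eq_zero hω J hJ hoff hp z fun b hb => by
    rw [hz] at hb
    exact (Submodule.mem_bot A).1 (Submodule.mem_colon_singleton.1 hb)
  exact hs (by rw [hz]; exact Submodule.mem_colon_singleton.2 ((Submodule.mem_bot A).2 h))

theorem two_le_depth {p : PrimeSpectrum A} (hp : 2 ≤ deg hω p) :
    2 ≤ LocCoh.depth (Localization.AtPrime p.asIdeal) (LocalizedModule p.asIdeal.primeCompl (Dual.HD A ω 0)) := by
  haveI : Module.Finite A (Dual.HD A ω 0) := hω.finite_cohomology 0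
  let L := Dual.HD A ω 0
  obtain ⟨a, hap, ha⟩ : ∃ a ∈ p.asIdeal, IsSMulRegular L a := by
    by_contra hcon
    have hsub : (p.asIdeal : Set A) ⊆ ⋃ q ∈ associatedPrimes A L, (q : Set A) := by
      rw [biUnion_associatedPrimes_eq_compl_regular A L]
      exact fun r hr hreg => hcon ⟨r, hr, hreg⟩
    rcases (associatedPrimes A L).eq_empty_or_nonempty with he | ⟨p₀, hp₀⟩
    · simpa [he] using hsub p.asIdeal.zero_mem
    · obtain ⟨q, hq, hle⟩ := (Ideal.subset_union_prime_finite (associatedPrimes.finite A L) p₀ p₀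
        fun q hq _ _ => IsAssociatedPrime.isPrime hq).1 hsub
      let Q : PrimeSpectrum A := ⟨q, IsAssociatedPrime.isPrime hq⟩
      have h1 := deg_mono hω (show p ≤ Q from hle)
      haveI : Q.asIdeal.IsPrime := Q.2
      exact (CommAlg6.one_le_depth_localized_iff Q.asIdeal).1 (one_le_depth hω J hJ hoff (p := Q) (by omega)) hq
  let Lp := LocalizedModule p.asIdeal.primeCompl L
  have ham : algebraMap A (Localization.AtPrime p.asIdeal) a ∈ IsLocalRing.maximalIdeal _ :=
    (IsLocalization.AtPrime.to_map_mem_maximal_iff _ p.asIdeal a).2 hap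
  have hareg : IsSMulRegular Lp (algebraMap A (Localization.AtPrime p.asIdeal) a) := by
    intro x y hxy
    simp only [algebraMap_smul] at hxy
    have hinj := LocalizedModule.map_injective p.asIdeal.primeCompl (a • (LinearMap.id : L →ₗ[A] L)) ha
    apply hinj
    rw [map_smul, LocalizedModule.map_id]
    simpa using hxy
  have hq : 1 ≤ LocCoh.depth (Localization.AtPrime p.asIdeal)
      (LocalizedModule p.asIdeal.primeCompl (QuotSMulTop a L)) := by
    refine (CommAlg6.one_le_depth_localized_iff p.asIdeal).2 fun hass => ?_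
    obtain ⟨-, z, hz⟩ := isAssociatedPrime_iff.1 hass
    obtain ⟨l, rfl⟩ := Submodule.Quotient.mk_surjective _ z
    have hb : ∀ b : p.asIdeal, ∃ m : L, a • m = (b : A) • l := fun b => by
      have hb' : (b : A) ∈ p.asIdeal := b.2
      have h := Submodule.mem_colon_singleton.1 ((SetLike.ext_iff.1 hz _).1 hb')
      rw [Submodule.mem_bot, ← Submodule.Quotient.mk_smul, Submodule.Quotient.mk_eq_zero,
        Submodule.mem_smul_pointwise_iff_exists] at h
      obtain ⟨m, -, hm⟩ := h
      exact ⟨m, hm⟩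
    choose ψ hψ using hb
    let ψ' : p.asIdeal →ₗ[A] L :=
      { toFun := ψ
        map_add' := fun x y => ha (by simp only [smul_add, hψ, Submodule.coe_add, add_smul])
        map_smul' := fun r x => ha (by
          show a • ψ (r • x) = a • (r • ψ x)
          rw [hψ, smul_comm a r, hψ, Submodule.coe_smul, smul_eq_mul, mul_smul]) }
    obtain ⟨s, hs, l', hl'⟩ := exists_extend hω J hJ hoff (by omega) ψ'
    obtain ⟨t, ht, htz⟩ := exists_smul_eq_zero hω J hJ hoff (p := p) (by omega) (s • l - a • l') fun b hb => by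
      rw [smul_sub, sub_eq_zero, smul_comm b s, ← hψ ⟨b, hb⟩, smul_comm b a, ← hl' ⟨b, hb⟩, smul_comm s a]
      rfl
    have : t * s ∈ p.asIdeal := by
      rw [hz, Submodule.mem_colon_singleton, Submodule.mem_bot, ← Submodule.Quotient.mk_smul,
        Submodule.Quotient.mk_eq_zero, Submodule.mem_smul_pointwise_iff_exists]
      refine ⟨t • l', trivial, ?_⟩
      rw [smul_sub, sub_eq_zero] at htz
      rw [mul_smul, htz, smul_comm]
    exact (p.2.mem_or_mem this).elim ht hs
  rw [← CAlgH3.depth_congr (CAlgH3.localizedQuotSMulTop p.asIdeal L a)] at hq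
  have := CAlgH3.depth_quotSMulTop_add_one (M := Lp) ham hareg
  rw [← this]
  exact le_trans (by norm_num) (add_le_add hq le_rfl)

theorem hasSk_two : LocCoh.HasSk 2 A (Dual.HD A ω 0) := by
  intro p hp
  haveI : Module.Finite A (Dual.HD A ω 0) := hω.finite_cohomology 0
  obtain ⟨-, -, d, hd, hdim, -⟩ := degree_spec hω J hJ hoff ⟨p, hp⟩
  refine le_trans (min_le_min le_rfl ((CAlg15.supportDim_localized_mono (M := A)
    (fun q _ => mem_support_self' q) p).trans hdim.le)) ?_
  rcases Nat.lt_trichotomy d 1 with h | rfl | h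
  · obtain rfl : d = 0 := by omega
    exact min_le_of_right_le (WithBot.coe_le_coe.2 (zero_le : (0 : ℕ∞) ≤ _))
  · exact min_le_of_right_le (WithBot.coe_le_coe.2
      (one_le_depth hω J hJ hoff (p := ⟨p, hp⟩) (by omega)))
  · exact min_le_of_left_le (WithBot.coe_le_coe.2
      (two_le_depth hω J hJ hoff (p := ⟨p, hp⟩) (by omega)))

theorem two_le_idealDepth (h2 : 2 ≤ J.height) : 2 ≤ LocCoh.idealDepth J (Dual.HD A ω 0) := by
  haveI : Module.Finite A (Dual.HD A ω 0) := hω.finite_cohomology 0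
  refine (CAlg15.le_idealDepth_iff J (Dual.HD A ω 0) 2).2 fun p hp => two_le_depth hω J hJ hoff ?_
  obtain ⟨h0, hh, -⟩ := degree_spec hω J hJ hoff p
  have h3 : ((2 : ℕ) : ℕ∞) ≤ ((deg hω p).toNat : ℕ∞) := h2.trans ((Ideal.height_mono hp).trans hh)
  have h4 : 2 ≤ (deg hω p).toNat := by exact_mod_cast h3
  omega

theorem ordinary [IsLocalRing A] (n : ℕ) (hd : ringKrullDim A = n) :
    EGA4.IsEquidim A ∧ Dual.IsNormalized A (ω⟦(n : ℤ)⟧) := by
  let m := IsLocalRing.closedPoint A
  obtain ⟨hm0, hmh, -⟩ := degree_spec hω J hJ hoff m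
  have hmax : ∀ r : PrimeSpectrum A, r ≤ m := fun r => IsLocalRing.le_maximalIdeal r.2.ne_top
  have hco : ∀ q : PrimeSpectrum A, (∀ r ≤ q, r = q) → Order.coheight q = (deg hω m).toNat := by
    intro q hq
    obtain ⟨s, hs1, hs2, hs3⟩ := exists_series_deg hω (hmax q)
    rw [deg_minimal hω J hJ hoff hq] at hs3
    refine le_antisymm (Order.coheight_le fun t ht => ?_)
      (le_of_eq_of_le (by congr 1; omega) (Order.length_le_coheight hs1.ge))
    have h1 := deg_add_length hω t
    have h2 := deg_mono hω (hmax t.last)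
    rw [show t.head = q from ht, deg_minimal hω J hJ hoff hq] at h1
    exact_mod_cast (show t.length ≤ (deg hω m).toNat by omega)
  have hn : (n : ℤ) = deg hω m := by
    have h1 : ringKrullDim A = (m.asIdeal.height : WithBot ℕ∞) := IsLocalRing.maximalIdeal_height_eq_ringKrullDim.symm
    rw [hd] at h1
    have h1' : m.asIdeal.height = (n : ℕ∞) := by exact_mod_cast h1.symm
    rw [h1'] at hmh
    have h2 : n ≤ (deg hω m).toNat := by exact_mod_cast hmh
    obtain ⟨q, -, -, hq⟩ := exists_min_below m A (mem_support_self' m) (mem_support_self' m) le_rfl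
    have h3 := hco q fun r hr => hq r (mem_support_self' r) hr
    have h4 : (Order.coheight q : WithBot ℕ∞) ≤ ringKrullDim A := Order.coheight_le_krullDim q
    rw [h3, hd] at h4
    have h5 : (deg hω m).toNat ≤ n := by exact_mod_cast h4
    omega
  refine ⟨fun q hq => ?_, fun i hi => ?_⟩
  · let Q : PrimeSpectrum A := ⟨q, hq.1.1⟩
    haveI : Q.asIdeal.IsPrime := Q.2
    have := hco Q fun r hr => PrimeSpectrum.ext (le_antisymm hr (hq.2 ⟨r.2, bot_le⟩ hr))
    show ringKrullDim (A ⧸ Q.asIdeal) = _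
    rw [ringKrullDim_quotient_eq_coheight, this, hd,
      show (deg hω m).toNat = n by omega]
    rfl
  · obtain ⟨k, hk, -⟩ := exists_degree (A := A) hω
    have hkm : k = deg hω m := by
      by_contra hne
      haveI : Subsingleton (E ω (A ⧸ m.asIdeal) (deg hω m)) := hk _ (Ne.symm hne)
      exact notMem_support_of_subsingleton m ((deg_spec hω m _).2 rfl)
    haveI := hk ((n : ℤ) + i) (by omega)
    exact (homShift (Dual.inD A (IsLocalRing.ResidueField A)) ω n i (n + i) rfl).symm.injective.subsingleton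

end Groth.Agent.QG15
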